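import Groth.Agent.Curves2.Clifford
import Groth.Agent.Curves2.CurveToolkit
import Groth.Agent.Crv77.InvMod
import Groth.Agent.EGA73.Invertible

/-!
# `h⁰(O) = 1` on an integral proper curve with `h¹(O) = 1`
-/

set_option autoImplicit false

universe u

open CategoryTheory CategoryTheory.Limits AlgebraicGeometry CategoryTheory.Abelian

namespace Groth.Agent.Curves2.GenusOne

open Groth.Agent.Crv77

theorem finrank_h0_eq_one (k : Type u) [Field k] {X : Scheme.{u}} [X.Over (Spec (CommRingCat.of k))]
    [IsIntegral X] [IsProper (X ↘ Spec (CommRingCat.of k))] (hdim : topologicalKrullDim X ≤ 1)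
    (hg : Curv2.genus k X = 1) : Module.finrank k (Coh.HH X (Coh.structureModule X) 0) = 1 := by
  have : AlgebraicGeometry.IsNoetherian X := isNoetherian_of_proper k X
  have hX := curveCoh_of_proper k X hdim
  let O := Coh.structureModule X
  have := hX.finite O isCoh_structureModule 0
  have := hX.finite O isCoh_structureModule 1
  have hadd : ∀ (x y : Coh.HH X O 0) (z : Coh.HH X O 1),
      hmap k (toHom (x + y)) 1 z = hmap k (toHom x) 1 z + hmap k (toHom y) 1 z := fun x y z => by
    exact ext_comp_add' z (toAb_toHom_add x y)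
  have hsmul : ∀ (a : k) (x : Coh.HH X O 0) (z : Coh.HH X O 1),
      hmap k (toHom (a • x)) 1 z = a • hmap k (toHom x) 1 z := fun a x z => by
    refine (congrArg (fun e => Ext.comp z (Ext.mk₀ e) (add_zero 1)) (toAb_toHom_smul k a x)).trans ?_
    exact (ext_comp_comp z _ _).symm.trans (smul_eq_comp k O 1 a _).symm
  let T : Coh.HH X O 0 →ₗ[k] (Coh.HH X O 1 →ₗ[k] Coh.HH X O 1) :=
    { toFun := fun x => hmap k (toHom x) 1
      map_add' := fun x y => LinearMap.ext fun z => hadd x y z
      map_smul' := fun a x => LinearMap.ext fun z => hsmul a x z }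
  have hnt : Nontrivial (Coh.HH X O 1) := Module.nontrivial_of_finrank_eq_succ (R := k) (n := 0) hg
  have hinj : Function.Injective T := (injective_iff_map_eq_zero T).2 fun x hx => by
    by_contra hx0
    have hsec : (toHom x).app ⊤ (1 : Γ(X, ⊤)) ≠ 0 := by
      rw [toHom_app_one]
      exact fun h => hx0 ((sec O).injective (h.trans (map_zero _).symm))
    have hO := EGA73.isInvertible_structureModule (X := X)
    obtain ⟨hm, hgen⟩ := section_of_invertible hO (toHom x) hsec
    have hQ := isCoh_cokernel (toHom x) isCoh_structureModule isCoh_structureModule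
    obtain ⟨S, hS, hcl, hsupp⟩ := exists_suppIn hdim hQ (QC70.subsingleton_stalk_cokernel (toHom x) _ hgen)
    let U := ShortComplex.mk (toHom x) (cokernel.π (toHom x)) (cokernel.condition _)
    have hU : U.ShortExact :=
      { exact := ShortComplex.exact_of_g_is_cokernel _ (cokernelIsCokernel _)
        mono_f := hm
        epi_g := inferInstanceAs (Epi (cokernel.π _)) }
    have := hsupp.subsingleton_HH hS hcl 0
    obtain ⟨v, hv⟩ := exists_ne (0 : Coh.HH X O 1)
    obtain ⟨z, hz⟩ := (exact_f_g k hU 1 v).1 (Subsingleton.elim _ _)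
    exact hv (hz ▸ LinearMap.congr_fun hx z)
  have hle := LinearMap.finrank_le_finrank_of_injective hinj
  rw [Module.finrank_linearMap, show Module.finrank k (Coh.HH X O 1) = 1 from hg] at hle
  have : Nontrivial (Coh.HH X O 0) :=
    ⟨⟨(sec O).symm (1 : Γ(X, ⊤)), 0, fun h => one_ne_zero (α := Γ(X, ⊤)) (by
      have := congrArg (sec O) h
      rwa [AddEquiv.apply_symm_apply, map_zero] at this)⟩⟩
  have hpos := Module.finrank_pos (R := k) (M := Coh.HH X O 0)
  simp only [O] at hle hpos ⊢
  omega

end Groth.Agent.Curves2.GenusOne
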