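import Groth.Agent.Curves2.Pencil.Ops
import Groth.Agent.Curves2.GenusOne.H0
import Groth.Agent.Curves2.RatPoint
import Groth.Agent.Crv77.DegreeInt
import Groth.Agent.VB30.ExtClass

/-!
# Genus one: `Γ(L) ⊗ Γ(L) → Γ(L ⊗ L)` is onto for `deg L ≥ 3`

No duality is used: `u ↦ u_*` identifies `Γ(L)` with `Hom(H¹(L⁻¹), H¹(O))`.
-/

set_option autoImplicit false
set_option linter.style.haveILetI false
set_option backward.isDefEq.respectTransparency.types false

universe u

open CategoryTheory CategoryTheory.Limits AlgebraicGeometry TopologicalSpace Opposite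

noncomputable section

namespace Groth.Agent.Curves2.GenusOne

open Groth.Agent.Crv77 Groth.Agent.Curves2.Pencil Groth.Agent.Curves2.H1Zero
open Groth.Agent.Amp73 (tm)

variable (k : Type u) [Field k] [Infinite k] {X : Scheme.{u}} [X.Over (Spec (CommRingCat.of k))]
  [IsIntegral X] [IsProper (X ↘ Spec (CommRingCat.of k))]

/-- The products, with `N₀` inverse to `L`. -/
theorem span_mul_eq_top (hdim : topologicalKrullDim X = 1) (hg : Curv2.genus k X = 1)
    {L N₀ : X.Modules} (hL : PicF.IsInvertible L) (hdeg : 3 ≤ Curv2.deg k X L 1)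
    (hN₀ : PicF.IsInvertible N₀) (e₀ : CohB1.tensorMod N₀ L ≅ Coh.structureModule X) :
    Submodule.span k {z | ∃ (a : Coh.HH X L 0) (v : Coh.HH X (CohB1.tensorMod (CohB1.tensorMod N₀ L) L) 0),
      z = mulH k L (CohB1.tensorMod (CohB1.tensorMod N₀ L) L) 0 a v} = ⊤ := by
  haveI := isNoetherian_of_proper k X
  have hC := curveCoh_of_proper k X hdim.le
  have hO := finrank_h0_eq_one k hdim.le hg
  set N₁ := CohB1.tensorMod N₀ L with hN₁def
  set N₂ := CohB1.tensorMod N₁ L with hN₂def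
  set N₃ := CohB1.tensorMod N₂ L with hN₃def
  have hN₁ : PicF.IsInvertible N₁ := EGA73.isInvertible_tensorMod hN₀ hL
  have hN₂ : PicF.IsInvertible N₂ := EGA73.isInvertible_tensorMod hN₁ hL
  have hN₃ : PicF.IsInvertible N₃ := EGA73.isInvertible_tensorMod hN₂ hL
  haveI := hC.finite L (isCoh_of_isInvertible hL) 0
  haveI := hC.finite N₀ (isCoh_of_isInvertible hN₀) 1
  haveI := hC.finite N₁ (isCoh_of_isInvertible hN₁) 0
  haveI := hC.finite N₁ (isCoh_of_isInvertible hN₁) 1
  haveI := hC.finite N₂ (isCoh_of_isInvertible hN₂) 0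
  haveI := hC.finite N₃ (isCoh_of_isInvertible hN₃) 0
  -- dimensions
  have hd₁ : Curv2.deg k X N₁ 1 = 0 := (Curves2.deg_congr (k := k) e₀).trans (Curves2.deg_structureModule (k := k))
  have hd₀ : Curv2.deg k X N₀ 1 = - Curv2.deg k X L 1 := by
    have := hC.deg_tensorMod hdim.le hN₀ hL
    rw [hd₁] at this
    omega
  have hd₂ : Curv2.deg k X N₂ 1 = Curv2.deg k X L 1 := by
    have := hC.deg_tensorMod hdim.le hN₁ hL
    rw [hd₁, zero_add] at this
    exact this
  have hd₃ : Curv2.deg k X N₃ 1 = 2 * Curv2.deg k X L 1 := by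
    have := hC.deg_tensorMod hdim.le hN₂ hL
    rw [hd₂] at this
    exact this.trans (two_mul _).symm
  have h11 : Module.finrank k (Coh.HH X N₁ 1) = 1 := (Curves2.finrank_congr (k := k) e₀ 1).trans hg
  have h10 : Module.finrank k (Coh.HH X N₁ 0) = 1 := (Curves2.finrank_congr (k := k) e₀ 0).trans hO
  have h00 : Module.finrank k (Coh.HH X N₀ 0) = 0 :=
    Curves2.finrank_h0_eq_zero_of_deg_neg (k := k) hdim.le hN₀ (by omega)
  have r₀ := hC.riemann hO (isCoh_of_isInvertible hN₀)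
  have rL := hC.riemann hO (isCoh_of_isInvertible hL)
  have r₂ := hC.riemann hO (isCoh_of_isInvertible hN₂)
  have r₃ := hC.riemann hO (isCoh_of_isInvertible hN₃)
  haveI := hC.h1_eq_zero_of_deg_gt hdim hO hL (by omega)
  haveI := hC.h1_eq_zero_of_deg_gt hdim hO hN₂ (by omega)
  haveI := hC.h1_eq_zero_of_deg_gt hdim hO hN₃ (by omega)
  simp only [Crv77.h, hg, h00, Module.finrank_zero_of_subsingleton (M := Coh.HH X L 1),
    Module.finrank_zero_of_subsingleton (M := Coh.HH X N₂ 1),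
    Module.finrank_zero_of_subsingleton (M := Coh.HH X N₃ 1)] at r₀ rL r₂ r₃
  -- a pencil without base points
  have hgg := hC.isGloballyGenerated_of_deg hdim hO hL (by rw [hg]; push_cast; omega)
  haveI : Nontrivial (Coh.HH X L 0) := Module.nontrivial_of_finrank_pos (R := k) (by omega)
  obtain ⟨a, ha⟩ := exists_ne (0 : Coh.HH X L 0)
  obtain ⟨b, hgen⟩ := exists_bpf_pencil k hdim.le hL hgg ha
  set s := sec L a with hs
  set t := sec L b with ht
  have hs0 : s ≠ 0 := fun h => ha ((sec L).injective (h.trans (map_zero _).symm))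
  have hT₀ := tmRight_shortExact hL hN₀ hs0
  have hT₁ := tmRight_shortExact hL hN₁ hs0
  have hT₂ := tmRight_shortExact hL hN₂ hs0
  haveI := isIso_cokMap hL s t hgen N₀
  haveI := isIso_cokMap hL s t hgen N₁
  have hcomp : ∀ {M N P : X.Modules} (f : M ⟶ N) (g : N ⟶ P) (x : Coh.HH X M 0),
      hmap k g 0 (hmap k f 0 x) = hmap k (f ≫ g) 0 x := fun f g x => hmap_comp k f g 0 x
  -- `v` off the pencil
  let R₁ := LinearMap.range (hmap k (tmRight s N₁) 0) ⊔ LinearMap.range (hmap k (tmRight t N₁) 0)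
  have hR₁ : R₁ ≠ ⊤ := fun h => by
    have h1 := Submodule.finrank_add_le_finrank_add_finrank
      (LinearMap.range (hmap k (tmRight s N₁) 0)) (LinearMap.range (hmap k (tmRight t N₁) 0))
    have h2 := LinearMap.finrank_range_le (hmap k (tmRight s N₁) 0)
    have h3 := LinearMap.finrank_range_le (hmap k (tmRight t N₁) 0)
    rw [show LinearMap.range (hmap k (tmRight s N₁) 0) ⊔ LinearMap.range (hmap k (tmRight t N₁) 0) = ⊤ from h,
      finrank_top] at h1
    have e2 : Module.finrank k (Coh.HH X (CohB1.tensorMod N₁ L) 0) = Module.finrank k (Coh.HH X N₂ 0) := rfl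
    omega
  obtain ⟨v, hv⟩ : ∃ v, v ∉ R₁ := by
    by_contra hcon
    push Not at hcon
    exact hR₁ (eq_top_iff.2 fun v _ => hcon v)
  let τ₀ := hEquiv k (asIso (cokMap hL s t N₀)) 0
  let τ₁ := hEquiv k (asIso (cokMap hL s t N₁)) 0
  let α := τ₀.symm (hmap k (cokernel.π (tmRight s N₁)) 0 v)
  have hα : hmap k (cokMap hL s t N₀) 0 α = hmap k (cokernel.π (tmRight s N₁)) 0 v := τ₀.apply_symm_apply _
  let ε := hδ k hT₀ 0 α
  have hε : ε ≠ 0 := fun h => by
    obtain ⟨c, hc⟩ := (exact_g_δ k hT₀ 0 α).1 h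
    change hmap k (cokernel.π (tmRight s N₀)) 0 c = α at hc
    rw [← hc, hcomp, π_cokMap, ← hcomp] at hα
    have h1 : hmap k (cokernel.π (tmRight s N₁)) 0 (v - hmap k (tmRight t N₁) 0 c) = 0 := by
      rw [map_sub, hα, sub_self]
    obtain ⟨d, hd⟩ := (exact_f_g k hT₁ 0 _).1 h1
    refine hv ?_
    rw [show v = hmap k (tmRight s N₁) 0 d + hmap k (tmRight t N₁) 0 c from (sub_eq_iff_eq_add.1 hd.symm)]
    exact Submodule.add_mem_sup ⟨d, rfl⟩ ⟨c, rfl⟩
  -- some section moves `ε`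
  haveI : Nontrivial (Coh.HH X N₁ 1) := Module.nontrivial_of_finrank_eq_succ (R := k) (n := 0) h11
  obtain ⟨u, hu⟩ : ∃ u, mulH k L N₀ 1 u ε ≠ 0 := by
    by_contra hcon
    push Not at hcon
    have hinj : Function.Injective (mulH k L N₀ 1) := (injective_iff_map_eq_zero _).2 fun u hu => by
      by_contra hu0
      obtain ⟨w, hw⟩ := exists_ne (0 : Coh.HH X N₁ 1)
      obtain ⟨z, hz⟩ := surjective_hmap_tmRight k hdim.le hL hN₀
        (t := sec L u) (fun h => hu0 ((sec L).injective (h.trans (map_zero _).symm))) w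
      exact hw (hz ▸ LinearMap.congr_fun hu z)
    have hbij : Function.Bijective (mulH k L N₀ 1) := ⟨hinj, (LinearMap.injective_iff_surjective_of_finrank_eq_finrank (by
      rw [Module.finrank_linearMap, h11, mul_one]
      omega)).1 hinj⟩
    obtain ⟨ξ, hξ⟩ : ∃ ξ : Module.Dual k (Coh.HH X N₀ 1), ξ ε ≠ 0 := by
      by_contra hc
      push Not at hc
      exact hε ((Module.forall_dual_apply_eq_zero_iff k ε).1 hc)
    obtain ⟨w, hw⟩ := exists_ne (0 : Coh.HH X N₁ 1)
    obtain ⟨u, hu⟩ := hbij.2 (ξ.smulRight w)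
    have h2 := hcon u
    rw [hu] at h2
    exact smul_ne_zero hξ hw h2
  -- the product `v ⊗ u` is off the pencil
  let R₂ := LinearMap.range (hmap k (tmRight s N₂) 0) ⊔ LinearMap.range (hmap k (tmRight t N₂) 0)
  have hoff : hmap k (tmRight (sec L u) N₂) 0 v ∉ R₂ := fun hmem => by
    obtain ⟨_, ⟨p, rfl⟩, _, ⟨q, rfl⟩, hpq⟩ := Submodule.mem_sup.1 hmem
    have h1 : hmap k (cokMap hL s (sec L u) N₁) 0 (hmap k (cokernel.π (tmRight s N₁)) 0 v) =
        hmap k (cokMap hL s t N₁) 0 (hmap k (cokernel.π (tmRight s N₁)) 0 q) := by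
      rw [hcomp, hcomp, π_cokMap, π_cokMap, ← hcomp, ← hcomp, ← hpq, map_add, hcomp, cokernel.condition,
        show hmap k (0 : N₂ ⟶ cokernel (tmRight s N₂)) 0 p = 0 from ?_, zero_add]
      exact (sec _).injective ((sec_hmap k _ p).trans (map_zero _).symm)
    have h2 : τ₁ (hmap k (cokMap hL s (sec L u) N₀) 0 α) =
        τ₁ (hmap k (cokernel.π (tmRight s N₁)) 0 q) := by
      show hmap k (cokMap hL s t N₁) 0 _ = hmap k (cokMap hL s t N₁) 0 _
      rw [hcomp, ← cokMap_comm hL s t (sec L u) N₀, ← hcomp, hα, h1]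
    have h3 := τ₁.injective h2
    let φ : ShortComplex.mk (tmRight s N₀) (cokernel.π (tmRight s N₀)) (cokernel.condition _) ⟶
        ShortComplex.mk (tmRight s N₁) (cokernel.π (tmRight s N₁)) (cokernel.condition _) :=
      ShortComplex.homMk (tmRight (sec L u) N₀) (tmRight (sec L u) N₁) (cokMap hL s (sec L u) N₀)
        (comp_tmRight_comm hL (sec L u) s) (π_cokMap hL s (sec L u) N₀).symm
    have h4 := VB30.hδ_natural (k := k) hT₀ hT₁ φ 0 α
    change hδ k hT₁ 0 (hmap k (cokMap hL s (sec L u) N₀) 0 α) = mulH k L N₀ 1 u ε at h4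
    rw [h3] at h4
    exact hu (h4.symm.trans ((exact_g_δ k hT₁ 0 _).2 ⟨q, rfl⟩))
  -- the pencil has codimension at most one
  let Φ : Coh.HH X N₂ 0 × Coh.HH X N₂ 0 →ₗ[k] Coh.HH X N₃ 0 :=
    (hmap k (tmRight s N₂) 0).coprod (hmap k (tmRight t N₂) 0)
  have hker : Module.finrank k (LinearMap.ker Φ) ≤ 1 := by
    let π := (LinearMap.snd k (Coh.HH X N₂ 0) (Coh.HH X N₂ 0)).comp (LinearMap.ker Φ).subtype
    have hπ : Function.Injective π := (injective_iff_map_eq_zero π).2 fun ⟨⟨p, q⟩, hpq⟩ hq => by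
      obtain rfl : q = 0 := hq
      have hp : hmap k (tmRight s N₂) 0 p = 0 := by simpa [Φ] using hpq
      have : p = 0 := injective_f_zero k hT₂ (hp.trans (map_zero _).symm)
      exact Subtype.ext (Prod.ext this rfl)
    have hrange : LinearMap.range π ≤ LinearMap.range (hmap k (tmRight s N₁) 0) := by
      rintro _ ⟨⟨⟨p, q⟩, hpq⟩, rfl⟩
      change q ∈ _
      have h1 : hmap k (tmRight s N₂) 0 p + hmap k (tmRight t N₂) 0 q = 0 := hpq
      refine (exact_f_g k hT₁ 0 q).1 (τ₁.injective ?_)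
      show hmap k (cokMap hL s t N₁) 0 (hmap k (cokernel.π (tmRight s N₁)) 0 q) = τ₁ 0
      rw [map_zero, hcomp, π_cokMap, ← hcomp, show hmap k (tmRight t N₂) 0 q = - hmap k (tmRight s N₂) 0 p from
        eq_neg_of_add_eq_zero_right h1, map_neg, neg_eq_zero]
      exact (exact_f_g k hT₂ 0 _).2 ⟨p, rfl⟩
    exact (LinearMap.finrank_range_of_inj hπ).ge.trans
      ((Submodule.finrank_mono hrange).trans ((LinearMap.finrank_range_le _).trans h10.le))
  have hn := Φ.finrank_range_add_finrank_ker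
  rw [Module.finrank_prod] at hn
  have hΦR : LinearMap.range Φ = R₂ := LinearMap.range_coprod _ _
  rw [hΦR] at hn
  set W := Submodule.span k {z | ∃ (a : Coh.HH X L 0) (v : Coh.HH X N₂ 0), z = mulH k L N₂ 0 a v}
  have hR₂W : R₂ ≤ W := sup_le
    (fun _ ⟨p, hp⟩ => Submodule.subset_span ⟨a, p, hp.symm⟩)
    (fun _ ⟨p, hp⟩ => Submodule.subset_span ⟨b, p, hp.symm⟩)
  have hlt : Module.finrank k R₂ < Module.finrank k W := Submodule.finrank_lt_finrank_of_lt
    (lt_of_le_of_ne hR₂W fun h => hoff (h ▸ Submodule.subset_span ⟨u, v, rfl⟩))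
  refine Submodule.eq_top_of_finrank_eq (le_antisymm (Submodule.finrank_le _) ?_)
  have e3 : Module.finrank k (Coh.HH X (CohB1.tensorMod N₂ L) 0) = Module.finrank k (Coh.HH X N₃ 0) := rfl
  have e4 : Module.finrank k R₂ + Module.finrank k (LinearMap.ker Φ) =
      Module.finrank k (Coh.HH X N₂ 0) + Module.finrank k (Coh.HH X N₂ 0) := hn
  clear hn
  change _ ≤ Module.finrank k W
  omega

end Groth.Agent.Curves2.GenusOne
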